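import Cfsg.Agent.Lib.Helper92.He.DataA

/-! # the Held group on 2058 points: the stabiliser chains (generated) -/

set_option autoImplicit false
set_option maxRecDepth 100000

namespace Cfsg.Agent.Lib.Helper92.He

open Cfsg
open Cfsg.Agent.Lib.Helper27
open Cfsg.Agent.Lib.Helper92
open Cfsg.Agent.Lib.Helper92.PCY

theorem chain_ok : chainB 2058 (nth Ggc) 10 (nth rhoL) (nth baseL) (nth mL) (fun i => tb (nth opL i))
    (fun i => tb (nth parL i)) (fun i => tb (nth gselL i)) (fun i => tb (nth posL i)) 5 = true := by decide +kernel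

theorem chain2_ok : chainB 2058 (nth Ghc) 11 (nth rho2L) (nth baseL) (nth m2L) (fun i => tb (nth op2L i))
    (fun i => tb (nth par2L i)) (fun i => tb (nth gsel2L i)) (fun i => tb (nth pos2L i)) 5 = true := by decide +kernel

theorem prod_ok : prodM (nth mL) 5 = 4030387200 := by decide +kernel

theorem prod2_ok : prodM (nth m2L) 5 = 2 * 4030387200 := by decide +kernel

theorem zcomm_ok : zcommB 2058 zC (nth qcL) 8 = true := by decide +kernel

theorem fix_ok : fixQ2 2058 zC (nth qcL) 8 19 (tb Qwj) = true := by decide +kernel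

theorem base_ok : baseQ (nth qcL) 8 19 (nth baseL) (nthL Qwd) 5 = true := by decide +kernel

theorem y_ok : prodB 2058 yC sC ypC = true := by decide +kernel

theorem orb0_ok : orbB 2058 (nth Ggc) 10 (tb (nth opL 0)) (tb (nth parL 0)) (tb (nth gselL 0)) (tb (nth posL 0)) 19 2058 = true := by decide +kernel

theorem fixB_ok : fixB 2058 (nth Ggc) 8 19 (tb Owj) = true := by decide +kernel

end Cfsg.Agent.Lib.Helper92.He
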