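import Cfsg.Agent.Lib.Helper92.He.DataA
import Cfsg.Agent.Lib.Helper92.He.DataW
import Cfsg.Agent.Lib.Helper92.He.DataY

/-! # the Held group on 2058 points: the outer element (generated) -/

set_option autoImplicit false
set_option maxRecDepth 100000

namespace Cfsg.Agent.Lib.Helper92.He

open Cfsg
open Cfsg.Agent.Lib.Helper27
open Cfsg.Agent.Lib.Helper92
open Cfsg.Agent.Lib.Helper92.PCY

theorem sz_code : mulP 2058 (mulP 2058 sC zC) siC = Yf 1386 := by decide +kernel

theorem ss_code : mulP 2058 sC sC = nth2 WT 64 16 := by decide +kernel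

end Cfsg.Agent.Lib.Helper92.He
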