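import Cfsg.Agent.Lib.Helper92.He.DataA
import Cfsg.Agent.Lib.Helper92.He.DataW
import Cfsg.Agent.Lib.Helper92.He.DataY

/-! # the Held group on 2058 points: the representatives are conjugates (generated) -/

set_option autoImplicit false
set_option maxRecDepth 100000

namespace Cfsg.Agent.Lib.Helper92.He

open Cfsg
open Cfsg.Agent.Lib.Helper27
open Cfsg.Agent.Lib.Helper92
open Cfsg.Agent.Lib.Helper92.PCY

theorem reps4 : repsP 2058 zC (nth2 WT 64) (fun k => nth2 WT 64 (tb Winv k)) Yf (tb Ypar) (tb Ykk) 136 480 120 = true := by decide +kernel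

theorem reps5 : repsP 2058 zC (nth2 WT 64) (fun k => nth2 WT 64 (tb Winv k)) Yf (tb Ypar) (tb Ykk) 136 600 120 = true := by decide +kernel

end Cfsg.Agent.Lib.Helper92.He
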