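import Cfsg.Agent.Lib.Helper92.He.DataA

/-! # the Held group on 2058 points: straight line programs (generated) -/

set_option autoImplicit false
set_option maxRecDepth 100000

namespace Cfsg.Agent.Lib.Helper92.He

open Cfsg
open Cfsg.Agent.Lib.Helper27
open Cfsg.Agent.Lib.Helper92
open Cfsg.Agent.Lib.Helper92.PCY

theorem run1 : headsOK outs1 (slp 2058 eC prog1 stack1) = true := by decide +kernel

end Cfsg.Agent.Lib.Helper92.He
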