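import Cfsg.Agent.Lib.Helper92.He.DataA
import Cfsg.Agent.Lib.Helper92.He.DataW

/-! # the Held group on 2058 points: the normaliser of an element of order 17 (generated) -/

set_option autoImplicit false
set_option maxRecDepth 100000

namespace Cfsg.Agent.Lib.Helper92.He

open Cfsg
open Cfsg.Agent.Lib.Helper27
open Cfsg.Agent.Lib.Helper92
open Cfsg.Agent.Lib.Helper92.PCY

theorem wtree0 : wtreeB 2058 (nth [aC, bC]) 2 (nth2 WT 64) (fun k => nth2 WT 64 (tb Winv k)) (tb Wpar) (tb Wgs) 0 68 = true := by decide +kernel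

theorem wtree1 : wtreeB 2058 (nth [aC, bC]) 2 (nth2 WT 64) (fun k => nth2 WT 64 (tb Winv k)) (tb Wpar) (tb Wgs) 68 68 = true := by decide +kernel

end Cfsg.Agent.Lib.Helper92.He
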